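import Mathlib
import Cfsg.Agent.Lib.Quadratic.Pair
import Cfsg.Agent.Lib.ZJ.RealKey

set_option autoImplicit false
set_option linter.unusedSectionVars false

/-!
A group generated by two quadratic unipotent matrices, in odd characteristic, is a `p`-group or has an
involution, and every such involution commutes with both generators and stabilises their images.
-/

namespace CfsgLib.Classical.QuadPairInvol

open Matrix
open scoped MatrixGroups

universe u

variable {F : Type u} [Field F] {ι : Type} [Fintype ι] [DecidableEq ι]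

/-- The form of the elements of the group generated by `1 + X` and `1 + K`. -/
def Shape (R : Subalgebra F (Matrix ι ι F)) (X K : Matrix ι ι F) (g g' : Matrix ι ι F) : Prop :=
  ∃ a ∈ R, ∃ b ∈ R, ∃ c ∈ R, ∃ d ∈ R, g = a + b * X + c * K + d * (X * K) ∧
    g' = a - b * X - c * K + d * (K * X)

variable {X K : Matrix ι ι F}

theorem commute_adjoin {a : Matrix ι ι F} (ha : a ∈ Algebra.adjoin F ({X * K + K * X} : Set (Matrix ι ι F)))
    {Y : Matrix ι ι F} (hY : (X * K + K * X) * Y = Y * (X * K + K * X)) : Y * a = a * Y := by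
  induction ha using Algebra.adjoin_induction with
  | mem x hx => rw [Set.mem_singleton_iff.1 hx, hY]
  | algebraMap r => exact (Algebra.commutes r Y).symm
  | add x y _ _ h1 h2 => rw [Matrix.mul_add, Matrix.add_mul, h1, h2]
  | mul x y _ _ h1 h2 => rw [← Matrix.mul_assoc, h1, Matrix.mul_assoc, h2, Matrix.mul_assoc]

/-- The product of two elements of the normal form. -/
theorem form_mul (hX : X * X = 0) (hK : K * K = 0) {a b c d a' b' c' d' : Matrix ι ι F}
    (ha' : a' ∈ Algebra.adjoin F {X * K + K * X}) (hb' : b' ∈ Algebra.adjoin F {X * K + K * X})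
    (hc' : c' ∈ Algebra.adjoin F {X * K + K * X}) (hd' : d' ∈ Algebra.adjoin F {X * K + K * X}) :
    (a + b * X + c * K + d * (X * K)) * (a' + b' * X + c' * K + d' * (X * K)) =
      (a * a' + c * b' * (X * K + K * X)) + (a * b' + b * a' + d * b' * (X * K + K * X)) * X +
      (a * c' + c * a' + c * d' * (X * K + K * X)) * K +
      (a * d' + d * a' + b * c' - c * b' + d * d' * (X * K + K * X)) * (X * K) := by
  set S := X * K + K * X with hSdef
  have hS : S ∈ Algebra.adjoin F ({S} : Set (Matrix ι ι F)) := Algebra.subset_adjoin rfl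
  have hSX : S * X = X * S := by
    rw [hSdef, Matrix.add_mul, Matrix.mul_add, Matrix.mul_assoc K, hX, Matrix.mul_zero, add_zero,
      ← Matrix.mul_assoc X X, hX, Matrix.zero_mul, zero_add, Matrix.mul_assoc]
  have hSK : S * K = K * S := by
    rw [hSdef, Matrix.add_mul, Matrix.mul_add, Matrix.mul_assoc X, hK, Matrix.mul_zero, zero_add,
      ← Matrix.mul_assoc K K, hK, Matrix.zero_mul, add_zero, Matrix.mul_assoc]
  have pX : ∀ {r : Matrix ι ι F}, r ∈ Algebra.adjoin F ({S} : Set (Matrix ι ι F)) →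
      ∀ Z : Matrix ι ι F, X * (r * Z) = r * (X * Z) := fun hr Z => by
    rw [← Matrix.mul_assoc, commute_adjoin hr hSX, Matrix.mul_assoc]
  have pK : ∀ {r : Matrix ι ι F}, r ∈ Algebra.adjoin F ({S} : Set (Matrix ι ι F)) →
      ∀ Z : Matrix ι ι F, K * (r * Z) = r * (K * Z) := fun hr Z => by
    rw [← Matrix.mul_assoc, commute_adjoin hr hSK, Matrix.mul_assoc]
  have e1 : X * a' = a' * X := commute_adjoin ha' hSX
  have e2 : K * a' = a' * K := commute_adjoin ha' hSK
  have hXXz : ∀ Z : Matrix ι ι F, X * (X * Z) = 0 := fun Z => by rw [← Matrix.mul_assoc, hX, Matrix.zero_mul]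
  have hKKz : ∀ Z : Matrix ι ι F, K * (K * Z) = 0 := fun Z => by rw [← Matrix.mul_assoc, hK, Matrix.zero_mul]
  have hXKX : X * (K * X) = S * X := by
    rw [hSdef, Matrix.add_mul, Matrix.mul_assoc K, hX, Matrix.mul_zero, add_zero, Matrix.mul_assoc]
  have hKXK : K * (X * K) = S * K := by
    rw [hSdef, Matrix.add_mul, Matrix.mul_assoc X, hK, Matrix.mul_zero, zero_add, Matrix.mul_assoc]
  have hKX : K * X = S - X * K := by rw [hSdef, add_sub_cancel_left]
  simp only [Matrix.mul_add, Matrix.add_mul, Matrix.sub_mul, Matrix.mul_sub, Matrix.mul_assoc, pX ha', pX hb', pX hc',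
    pX hd', pK ha', pK hb', pK hc', pK hd', pX hS, e1, e2, hX, hK, hXXz, hKKz, hXKX, hKXK, Matrix.mul_zero, add_zero,
    zero_add]
  rw [hKX]
  simp only [Matrix.mul_sub]
  abel

theorem form_flip (a b c d : Matrix ι ι F) :
    a - b * X - c * K + d * (K * X) =
      (a + d * (X * K + K * X)) + (-b) * X + (-c) * K + (-d) * (X * K) := by
  simp only [Matrix.mul_add, Matrix.neg_mul]
  abel

theorem shape_mul (hX : X * X = 0) (hK : K * K = 0) {g g' h h' : Matrix ι ι F}
    (hg : Shape (Algebra.adjoin F {X * K + K * X}) X K g g')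
    (hh : Shape (Algebra.adjoin F {X * K + K * X}) X K h h') :
    Shape (Algebra.adjoin F {X * K + K * X}) X K (g * h) (h' * g') := by
  obtain ⟨a, ha, b, hb, c, hc, d, hd, rfl, rfl⟩ := hg
  obtain ⟨a', ha', b', hb', c', hc', d', hd', rfl, rfl⟩ := hh
  have hS : X * K + K * X ∈ Algebra.adjoin F {X * K + K * X} := Algebra.subset_adjoin rfl
  refine ⟨_, add_mem (mul_mem ha ha') (mul_mem (mul_mem hc hb') hS), _,
    add_mem (add_mem (mul_mem ha hb') (mul_mem hb ha')) (mul_mem (mul_mem hd hb') hS), _,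
    add_mem (add_mem (mul_mem ha hc') (mul_mem hc ha')) (mul_mem (mul_mem hc hd') hS), _,
    add_mem (sub_mem (add_mem (add_mem (mul_mem ha hd') (mul_mem hd ha')) (mul_mem hb hc')) (mul_mem hc hb'))
      (mul_mem (mul_mem hd hd') hS), form_mul hX hK ha' hb' hc' hd', ?_⟩
  rw [form_flip a', form_flip a b, form_mul hX hK (add_mem ha (mul_mem hd hS)) (neg_mem hb) (neg_mem hc) (neg_mem hd),
    form_flip]
  letI : CommRing (Algebra.adjoin F ({X * K + K * X} : Set (Matrix ι ι F))) :=
    { (inferInstance : Ring (Algebra.adjoin F ({X * K + K * X} : Set (Matrix ι ι F)))) with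
      mul_comm := fun r r' => Subtype.ext (commute_adjoin r'.2 (commute_adjoin (Y := X * K + K * X) r.2 rfl)) }
  let A : Algebra.adjoin F ({X * K + K * X} : Set (Matrix ι ι F)) := ⟨a, ha⟩
  let B : Algebra.adjoin F ({X * K + K * X} : Set (Matrix ι ι F)) := ⟨b, hb⟩
  let C : Algebra.adjoin F ({X * K + K * X} : Set (Matrix ι ι F)) := ⟨c, hc⟩
  let E : Algebra.adjoin F ({X * K + K * X} : Set (Matrix ι ι F)) := ⟨d, hd⟩
  let A' : Algebra.adjoin F ({X * K + K * X} : Set (Matrix ι ι F)) := ⟨a', ha'⟩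
  let B' : Algebra.adjoin F ({X * K + K * X} : Set (Matrix ι ι F)) := ⟨b', hb'⟩
  let C' : Algebra.adjoin F ({X * K + K * X} : Set (Matrix ι ι F)) := ⟨c', hc'⟩
  let E' : Algebra.adjoin F ({X * K + K * X} : Set (Matrix ι ι F)) := ⟨d', hd'⟩
  let T : Algebra.adjoin F ({X * K + K * X} : Set (Matrix ι ι F)) := ⟨_, hS⟩
  refine congrArg₂ (· + ·) (congrArg₂ (· + ·) (congrArg₂ (· + ·) ?_ ?_) ?_) ?_
  · exact congrArg Subtype.val (show (A' + E' * T) * (A + E * T) + (-C') * (-B) * T =
      (A * A' + C * B' * T) + (A * E' + E * A' + B * C' - C * B' + E * E' * T) * T by ring)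
  · exact congrArg (fun r => r.1 * X) (show (A' + E' * T) * (-B) + (-B') * (A + E * T) + (-E') * (-B) * T =
      -(A * B' + B * A' + E * B' * T) by ring)
  · exact congrArg (fun r => r.1 * K) (show (A' + E' * T) * (-C) + (-C') * (A + E * T) + (-C') * (-E) * T =
      -(A * C' + C * A' + C * E' * T) by ring)
  · exact congrArg (fun r => r.1 * (X * K)) (show (A' + E' * T) * (-E) + (-E') * (A + E * T) + (-B') * (-C) -
      (-C') * (-B) + (-E') * (-E) * T = -(A * E' + E * A' + B * C' - C * B' + E * E' * T) by ring)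

variable {x k : GL ι F}

theorem shape_mem (hX : X * X = 0) (hK : K * K = 0) (hx : x.1 = 1 + X) (hk : k.1 = 1 + K) {g : GL ι F}
    (hg : g ∈ Subgroup.closure ({x, k} : Set (GL ι F))) :
    Shape (Algebra.adjoin F {X * K + K * X}) X K g.1 (g⁻¹).1 := by
  induction hg using Subgroup.closure_induction with
  | mem g hg =>
    rcases hg with rfl | rfl
    · refine ⟨1, one_mem _, 1, one_mem _, 0, zero_mem _, 0, zero_mem _, by simp [hx], ?_⟩
      refine Units.inv_eq_of_mul_eq_one_right ?_
      simp [hx, Matrix.mul_sub, Matrix.add_mul, hX]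
    · refine ⟨1, one_mem _, 0, zero_mem _, 1, one_mem _, 0, zero_mem _, by simp [hk], ?_⟩
      refine Units.inv_eq_of_mul_eq_one_right ?_
      simp [hk, Matrix.mul_sub, Matrix.add_mul, hK]
  | one => exact ⟨1, one_mem _, 0, zero_mem _, 0, zero_mem _, 0, zero_mem _, by simp, by simp⟩
  | mul g h _ _ i1 i2 =>
    rw [Units.val_mul, _root_.mul_inv_rev, Units.val_mul]
    exact shape_mul hX hK i1 i2
  | inv g _ i1 =>
    obtain ⟨a, ha, b, hb, c, hc, d, hd, e1, e2⟩ := i1
    set S := X * K + K * X with hS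
    refine ⟨a + d * S, add_mem ha (mul_mem hd (Algebra.subset_adjoin rfl)), -b, neg_mem hb, -c, neg_mem hc, -d,
      neg_mem hd, ?_, ?_⟩
    · rw [e2, hS]
      simp only [Matrix.mul_add, Matrix.neg_mul]
      abel
    · rw [inv_inv, e1, hS]
      simp only [Matrix.mul_add, Matrix.neg_mul]
      abel

/-- The images of `g - 1` lie in the sum of the images of `X` and `K`. -/
theorem sub_one_mem_range (hX : X * X = 0) (hK : K * K = 0) (hx : x.1 = 1 + X) (hk : k.1 = 1 + K) {g : GL ι F}
    (hg : g ∈ Subgroup.closure ({x, k} : Set (GL ι F))) :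
    LinearMap.range (g.1 - 1).mulVecLin ≤ LinearMap.range X.mulVecLin ⊔ LinearMap.range K.mulVecLin := by
  set U := LinearMap.range X.mulVecLin ⊔ LinearMap.range K.mulVecLin with hU
  have hor : ∀ g : GL ι F, (∀ v, g.1 *ᵥ v - v ∈ U) → ∀ v, (g⁻¹).1 *ᵥ v - v ∈ U := fun g h v => by
    have := h ((g⁻¹).1 *ᵥ v)
    rw [Matrix.mulVec_mulVec, g.mul_inv, Matrix.one_mulVec] at this
    simpa using neg_mem this
  have main : ∀ v, g.1 *ᵥ v - v ∈ U := by
    induction hg using Subgroup.closure_induction with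
    | mem g hg =>
      intro v
      rcases hg with rfl | rfl
      · rw [hx, Matrix.add_mulVec, Matrix.one_mulVec, add_sub_cancel_left]
        exact Submodule.mem_sup_left ⟨v, rfl⟩
      · rw [hk, Matrix.add_mulVec, Matrix.one_mulVec, add_sub_cancel_left]
        exact Submodule.mem_sup_right ⟨v, rfl⟩
    | one => intro v; simp
    | mul g h _ _ i1 i2 =>
      intro v
      rw [Units.val_mul, ← Matrix.mulVec_mulVec]
      simpa using add_mem (i1 (h.1 *ᵥ v)) (i2 v)
    | inv g _ i1 => exact hor g i1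
  rintro _ ⟨v, rfl⟩
  rw [Matrix.mulVecLin_apply, Matrix.sub_mulVec, Matrix.one_mulVec]
  exact main v

/-- An involution of the group centralises the generators. -/
theorem invol_comm (h2 : (2 : F) ≠ 0) (hX : X * X = 0) (hK : K * K = 0) (hx : x.1 = 1 + X) (hk : k.1 = 1 + K)
    {z : GL ι F} (hz : z ∈ Subgroup.closure ({x, k} : Set (GL ι F))) (hz2 : z * z = 1) :
    z.1 * X = X * z.1 ∧ z.1 * K = K * z.1 := by
  obtain ⟨a, ha, b, hb, c, hc, d, hd, e1, e2⟩ := shape_mem hX hK hx hk hz
  rw [inv_eq_of_mul_eq_one_right hz2] at e2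
  set S := X * K + K * X with hSdef
  have hSX : S * X = X * S := by
    rw [hSdef, Matrix.add_mul, Matrix.mul_add, Matrix.mul_assoc K, hX, Matrix.mul_zero, add_zero,
      ← Matrix.mul_assoc X X, hX, Matrix.zero_mul, zero_add, Matrix.mul_assoc]
  have hSK : S * K = K * S := by
    rw [hSdef, Matrix.add_mul, Matrix.mul_add, Matrix.mul_assoc X, hK, Matrix.mul_zero, zero_add,
      ← Matrix.mul_assoc K K, hK, Matrix.zero_mul, add_zero, Matrix.mul_assoc]
  have key : (2 : F) • (b * X) + (2 : F) • (c * K) + d * (X * K) - d * (K * X) = 0 := by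
    linear_combination (norm := module) e2 - e1
  have kX := congrArg (· * X) key
  have kX' := congrArg (X * ·) key
  have kK := congrArg (· * K) key
  have kK' := congrArg (K * ·) key
  simp only [Matrix.add_mul, Matrix.sub_mul, Matrix.mul_add, Matrix.mul_sub, Matrix.smul_mul, Matrix.mul_smul,
    Matrix.mul_assoc, hX, hK, Matrix.mul_zero, Matrix.zero_mul, smul_zero, add_zero, zero_add, sub_zero] at kX kX' kK kK'
  have pX : ∀ {r : Matrix ι ι F}, r ∈ Algebra.adjoin F ({S} : Set (Matrix ι ι F)) →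
      ∀ Z : Matrix ι ι F, X * (r * Z) = r * (X * Z) := fun hr Z => by
    rw [← Matrix.mul_assoc, commute_adjoin hr hSX, Matrix.mul_assoc]
  have pK : ∀ {r : Matrix ι ι F}, r ∈ Algebra.adjoin F ({S} : Set (Matrix ι ι F)) →
      ∀ Z : Matrix ι ι F, K * (r * Z) = r * (K * Z) := fun hr Z => by
    rw [← Matrix.mul_assoc, commute_adjoin hr hSK, Matrix.mul_assoc]
  have hXXz : ∀ Z : Matrix ι ι F, X * (X * Z) = 0 := fun Z => by rw [← Matrix.mul_assoc, hX, Matrix.zero_mul]
  have hKKz : ∀ Z : Matrix ι ι F, K * (K * Z) = 0 := fun Z => by rw [← Matrix.mul_assoc, hK, Matrix.zero_mul]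
  simp only [pX hb, pX hc, pX hd, pK hb, pK hc, pK hd, hX, hK, hXXz, hKKz, Matrix.mul_zero, smul_zero, add_zero,
    zero_add, sub_zero, zero_sub] at kX' kK'
  have q1 : X * a = a * X := commute_adjoin ha hSX
  have q2 : K * a = a * K := commute_adjoin ha hSK
  constructor <;>
  · rw [e1]
    simp only [Matrix.add_mul, Matrix.mul_add, Matrix.mul_assoc, pX hb, pX hc, pX hd, pK hb, pK hc, pK hd, q1, q2,
      hX, hK, hXXz, hKKz, Matrix.mul_zero, add_zero, zero_add]
    refine smul_right_injective _ h2 ?_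
    simp only [smul_add]
    first
    | (linear_combination (norm := module) kX - kX')
    | (linear_combination (norm := module) kK - kK')
    | (linear_combination (norm := module) kK' - kK)
    | (linear_combination (norm := module) kX' - kX)

/-- A matrix of `GL` as an additive endomorphism. -/
def toEnd : GL ι F →* AddMonoid.End (ι → F) where
  toFun g := (g.1.mulVecLin).toAddMonoidHom
  map_one' := AddMonoidHom.ext fun v => by
    show (1 : Matrix ι ι F) *ᵥ v = v
    rw [Matrix.one_mulVec]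
  map_mul' g h := AddMonoidHom.ext fun v => by
    show (g * h).1 *ᵥ v = g.1 *ᵥ (h.1 *ᵥ v)
    rw [Units.val_mul, Matrix.mulVec_mulVec]

/-- Two quadratic elements generate a `p`-group or a group with an involution. -/
theorem exists_invol [Finite F] {p : ℕ} [hp : Fact p.Prime] [CharP F p] (hp2 : p ≠ 2) (hX : X * X = 0)
    (hK : K * K = 0) (hx : x.1 = 1 + X) (hk : k.1 = 1 + K)
    (hnp : ¬ IsPGroup p (Subgroup.closure ({x, k} : Set (GL ι F)))) :
    ∃ z ∈ Subgroup.closure ({x, k} : Set (GL ι F)), z * z = 1 ∧ z ≠ 1 := by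
  classical
  set H := Subgroup.closure ({x, k} : Set (GL ι F)) with hH
  let a : H := ⟨x, Subgroup.subset_closure (Set.mem_insert _ _)⟩
  let b : H := ⟨k, Subgroup.subset_closure (Set.mem_insert_of_mem _ (Set.mem_singleton _))⟩
  let φ : H →* AddMonoid.End (ι → F) := (toEnd (F := F) (ι := ι)).comp H.subtype
  have hinj : ∀ g : H, φ g = 1 → g = 1 := fun g hg => by
    refine Subtype.ext (Units.ext (Matrix.ext_iff_mulVec.2 fun v => ?_))
    show (g : GL ι F).1 *ᵥ v = (1 : Matrix ι ι F) *ᵥ v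
    rw [Matrix.one_mulVec]
    exact DFunLike.congr_fun hg v
  have hV : ∀ v : ι → F, p • v = 0 := fun v => by
    ext i
    rw [Pi.smul_apply, nsmul_eq_mul, CharP.cast_eq_zero, zero_mul, Pi.zero_apply]
  have hN : ¬ ∀ g ∈ (⊤ : Subgroup H), ∃ j, φ g ^ p ^ j = 1 := by
    intro hall
    refine hnp fun g => ?_
    obtain ⟨j, hj⟩ := hall g trivial
    exact ⟨j, hinj _ (by rw [map_pow, hj])⟩
  obtain ⟨W, i1, i2, ψ, hW, hψ, ⟨g, -, hg⟩, hquad, -⟩ :=
    Quadratic.exists_irreducible_factor (p := p) (⊤ : Subgroup H) _ (ι → F) rfl hV φ hN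
  have hgen : Subgroup.closure ({a, b} : Set H) = ⊤ := by
    apply Subgroup.map_injective H.subtype_injective
    rw [MonoidHom.map_closure, Set.image_pair, ← MonoidHom.range_eq_map, Subgroup.range_subtype]
    rfl
  have hq : ∀ (y : H) (N : Matrix ι ι F), (y : GL ι F).1 = 1 + N → N * N = 0 → (φ y - 1) * (φ y - 1) = 0 := by
    intro y N hy hN
    refine AddMonoidHom.ext fun v => ?_
    show (y : GL ι F).1 *ᵥ ((y : GL ι F).1 *ᵥ v - v) - ((y : GL ι F).1 *ᵥ v - v) = 0
    simp only [hy, Matrix.add_mulVec, Matrix.one_mulVec, add_sub_cancel_left, Matrix.mulVec_mulVec, Matrix.add_mul,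
      Matrix.one_mul, hN, add_zero, sub_self,
      Matrix.zero_mulVec]
  obtain ⟨F', i3, i4, i5, lam, hlam, -, ρ, hρa, hρb, -, -⟩ :=
    Quadratic.exists_sl2_of_irreducible hW ψ hψ hgen (hquad a (hq a X hx hX)) (hquad b (hq b K hk hK)) ⟨g, hg⟩
  obtain ⟨c, t, ht, hc⟩ := SL2.exists_conj_twist (p := p) hp2 ρ.range
    (Quadratic.one_lt_card_sylow_range ρ hlam hρa hρb)
  obtain ⟨n, hn⟩ : (-1 : SL(2, F')) ∈ ρ.range := by
    have htw : SL2.twist t ht (-1 : SL(2, ZMod p)) = (-1 : SL(2, F')) := by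
      apply SL2.ext2 <;> simp [SL2.twist_coe]
    have h1 := hc (-1)
    rw [htw] at h1
    simpa using h1
  have hne : (-1 : SL(2, F')) ≠ 1 := by
    intro e
    refine Ring.neg_one_ne_one_of_char_ne_two (R := F') ?_ ?_
    · rw [ringChar.eq F' p]
      exact hp2
    · simpa using congrArg (fun A : SL(2, F') => A.1 0 0) e
  have h2 : 2 ∣ Nat.card H := by
    have h := orderOf_map_dvd ρ n
    rw [hn, orderOf_eq_prime (p := 2) (by rw [neg_one_sq]) hne] at h
    exact h.trans (orderOf_dvd_natCard n)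
  obtain ⟨z, hz⟩ := exists_prime_orderOf_dvd_card' 2 h2
  refine ⟨z.1, z.2, ?_, fun e => ?_⟩
  · have := pow_orderOf_eq_one z
    rw [hz, pow_two] at this
    exact congrArg Subtype.val this
  · have : z = 1 := Subtype.ext e
    rw [this, orderOf_one] at hz
    exact absurd hz (by norm_num)

end CfsgLib.Classical.QuadPairInvol
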